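import Cfsg.Agent.H681.HT.PglB
import Cfsg.Agent.H420.HT.D4Pair
import Cfsg.Agent.H367.HT.Inv
import Cfsg.Agent.H28.FamFour
import Cfsg.Agent.H69.OutTwD4
import Cfsg.Agent.LieRecognition.FieldSemilinear

/-!
# S4933, `³D₄(q)`, `3 ∣ q + 1`: the invariance of the constituents of `Ind ρ` (helper566)

* `psi_inv` : the constituents of `Ind ρ` (of different degrees) are invariant under all automorphisms;
* `out_cyclic` : `Out (³D₄(q))` is cyclic.
-/

set_option autoImplicit false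
set_option linter.unusedSectionVars false

open scoped ComplexConjugate
open Cfsg

namespace Cfsg.Agent.H566.HT

section abstract_

variable {G : Type*} [Group G]

open Cfsg.Agent.KFacts.RgdAut (Fix)

theorem ext_comp {P : Subgroup G} {ρ : P → ℂ} {β : MulAut G} (hβ : Fix β P)
    (hρ : ∀ (x : G) (hx : x ∈ P), ρ ⟨β x, (hβ x).2 hx⟩ = ρ ⟨x, hx⟩) (x : G) :
    extendByZero P ρ (β x) = extendByZero P ρ x := by
  by_cases hx : x ∈ P
  · have h1 : extendByZero P ρ (β x) = ρ ⟨β x, (hβ x).2 hx⟩ :=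
      Function.Injective.extend_apply Subtype.val_injective _ _ (⟨β x, (hβ x).2 hx⟩ : P)
    have h2 : extendByZero P ρ x = ρ ⟨x, hx⟩ :=
      Function.Injective.extend_apply Subtype.val_injective _ _ (⟨x, hx⟩ : P)
    rw [h1, h2, hρ]
  · have h1 : ∀ y : G, y ∉ P → extendByZero P ρ y = 0 := by
      intro y hy
      unfold extendByZero
      rw [Function.extend_apply']
      · rfl
      · rintro ⟨a, rfl⟩
        exact hy a.2
    rw [h1 x hx, h1 _ fun h => hx ((hβ x).1 h)]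

/-- the induced class function -/
theorem indFun_comp [Fintype G] {P : Subgroup G} {ρ : P → ℂ} {β : MulAut G} (hβ : Fix β P)
    (hρ : ∀ (x : G) (hx : x ∈ P), ρ ⟨β x, (hβ x).2 hx⟩ = ρ ⟨x, hx⟩) (x : G) :
    indFun P ρ (β x) = indFun P ρ x := by
  unfold indFun
  congr 1
  refine (Fintype.sum_equiv β.toEquiv _ _ fun g => ?_).symm
  have h1 : (β.toEquiv g)⁻¹ * β x * β.toEquiv g = β (g⁻¹ * x * g) := by
    show (β g)⁻¹ * β x * β g = _
    rw [map_mul, map_mul, map_inv]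
  rw [h1, ext_comp hβ hρ]

/-- two constituents of different degrees -/
theorem comp_eq [Fintype G] {χ χ' : IrrCharacter G} (hne : charDegree (χ : G → ℂ) ≠ charDegree (χ' : G → ℂ))
    {t : MulAut G} (h : ∀ x, (χ : G → ℂ) (t x) + (χ' : G → ℂ) (t x) = (χ : G → ℂ) x + (χ' : G → ℂ) x) (x : G) :
    (χ : G → ℂ) (t x) = (χ : G → ℂ) x := by
  classical
  set ξ : IrrCharacter G := H700.PrinExt.mapIrr t χ with hξ
  set ξ' : IrrCharacter G := H700.PrinExt.mapIrr t χ' with hξ'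
  have hv : ∀ x, (ξ : G → ℂ) x = (χ : G → ℂ) (t x) := fun x => rfl
  have hv' : ∀ x, (ξ' : G → ℂ) x = (χ' : G → ℂ) (t x) := fun x => rfl
  have hd : charDegree (ξ : G → ℂ) = charDegree (χ : G → ℂ) := H700.PrinExt.charDegree_mapIrr _ _
  have hsum : (ξ : G → ℂ) + (ξ' : G → ℂ) = (χ : G → ℂ) + (χ' : G → ℂ) := by
    funext y
    rw [Pi.add_apply, Pi.add_apply, hv, hv', h]
  have hcc : χ ≠ χ' := fun h0 => hne (by rw [h0])
  have hxx : ξ ≠ ξ' := fun h0 => hne (by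
    rw [← hd, h0]
    exact H700.PrinExt.charDegree_mapIrr _ _)
  have h1 : ξ = χ ∨ ξ = χ' := by
    by_contra hcon
    push Not at hcon
    have h2 : classInner ((ξ : G → ℂ) + (ξ' : G → ℂ)) (ξ : G → ℂ) = 1 := by
      rw [Characters.Core.classInner_add_left, Characters.Core.classInner_irr_self ξ.2,
        Characters.Core.classInner_irr_ne ξ'.2 ξ.2 (fun h => hxx (Subtype.ext h.symm)), add_zero]
    rw [hsum, Characters.Core.classInner_add_left,
      Characters.Core.classInner_irr_ne χ.2 ξ.2 (fun h => hcon.1 (Subtype.ext h.symm)),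
      Characters.Core.classInner_irr_ne χ'.2 ξ.2 (fun h => hcon.2 (Subtype.ext h.symm)), add_zero] at h2
    exact zero_ne_one h2
  rcases h1 with h1 | h1
  · rw [← hv, h1]
  · exact absurd (by rw [← hd, h1]) hne

/-- the permutation of the cosets -/
theorem card_fixedBy_comp {X : Type*} [Group X] {B : Subgroup X} (τ : X ≃* X) (hB : ∀ x, τ x ∈ B ↔ x ∈ B) (x : X) :
    Nat.card (MulAction.fixedBy (X ⧸ B) (τ x)) = Nat.card (MulAction.fixedBy (X ⧸ B) x) := by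
  let e : X ⧸ B ≃ X ⧸ B := Quotient.congr τ.toEquiv fun a b => by
    rw [QuotientGroup.leftRel_apply, QuotientGroup.leftRel_apply]
    show a⁻¹ * b ∈ B ↔ (τ a)⁻¹ * τ b ∈ B
    rw [← map_inv, ← map_mul, hB]
  have he : ∀ y : X ⧸ B, e (x • y) = τ x • e y := by
    intro y
    induction y using QuotientGroup.induction_on with
    | _ y =>
      show (QuotientGroup.mk (τ (x * y)) : X ⧸ B) = QuotientGroup.mk (τ x * τ y)
      rw [map_mul]
  refine (Nat.card_congr (e.subtypeEquiv fun y => ?_)).symm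
  rw [MulAction.mem_fixedBy, MulAction.mem_fixedBy, ← he]
  exact e.apply_eq_iff_eq.symm

end abstract_

section frame

open CoxeterSystem Cfsg.Agent.ChevalleyStructure.CoxeterGeom Cfsg.Agent.Tits.Roots Cfsg.Agent.Tits.Core
  Cfsg.Agent.Tits.Exchange Cfsg.Agent.Nodes.Reps Cfsg.Agent.Nodes.BNOf Cfsg.Agent.Nodes.StabComb
  Cfsg.Agent.Nodes.Bruhat Cfsg.Agent.Nodes.LeviDec Cfsg.Agent.H53.HC
open Cfsg.Agent.KFacts.RgdAut Cfsg.Agent.KFacts.RgdDiag Cfsg.Agent.CpAut.RgdFix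

variable {I W Y : Type*} [Fintype I] [DecidableEq I] [Group W] [Group Y] {M : CoxeterMatrix I}
  {cs : CoxeterSystem M W} {A : I → I → ℤ} {h : IsCartan M A} {p : ℕ} {T : Subgroup Y} {n : I → Y}
  {X : (I → ℤ) → Subgroup Y}

theorem fix_sup {β : MulAut Y} {H K : Subgroup Y} (h1 : Fix β H) (h2 : Fix β K) : Fix β (H ⊔ K) := by
  have key : ∀ γ : MulAut Y, Fix γ H → Fix γ K → ∀ y, y ∈ H ⊔ K → γ y ∈ H ⊔ K := by
    intro γ hH hK y hy
    have h3 : H ⊔ K ≤ (H ⊔ K).comap γ.toMonoidHom :=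
      sup_le (fun z hz => Subgroup.mem_sup_left ((hH z).2 hz)) fun z hz => Subgroup.mem_sup_right ((hK z).2 hz)
    exact h3 hy
  intro y
  refine ⟨fun hy => ?_, key β h1 h2 y⟩
  have := key β⁻¹ h1.inv h2.inv _ hy
  rwa [MulAut.inv_apply_self] at this

variable (R : RGD cs h p T n X) [Finite W]

include R

theorem fix_MJ {β : MulAut Y} (D : Diag T X β 1) (J : Set I) : Fix β (MJ cs h X J) :=
  fix_Sup fun _ hx => fix_X R D hx.1

theorem fix_LJ {β : MulAut Y} (D : Diag T X β 1) (J : Set I) : Fix β (LJ cs h T X J) :=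
  fix_sup D.tor (fix_Sup fun _ hx => fix_X R D hx.1)

theorem fix_VJ {β : MulAut Y} (D : Diag T X β 1) (J : Set I) : Fix β (VJ cs h X J) :=
  fix_Sup fun _ hx => fix_X R D hx.1

theorem fix_PJ {β : MulAut Y} (D : Diag T X β 1) (J : Set I) : Fix β (PJ cs h T X J) :=
  fix_sup (fix_LJ R D J) (fix_VJ R D J)

theorem fix_B {β : MulAut Y} (D : Diag T X β 1) : Fix β (RGD.B cs h T X) :=
  fix_sup D.tor (fix_Sup fun _ hx => fix_X R D hx.1)

end frame

section td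

open CoxeterSystem Cfsg.Agent.ChevalleyStructure.CoxeterGeom Cfsg.Agent.Tits.Roots Cfsg.Agent.Tits.Core
  Cfsg.Agent.Tits.Exchange Cfsg.Agent.Nodes.Reps Cfsg.Agent.Nodes.BNOf Cfsg.Agent.Nodes.StabComb
  Cfsg.Agent.Nodes.Bruhat Cfsg.Agent.Nodes.LeviDec Cfsg.Agent.H53.HC Cfsg.Agent.Nodes.OppDec
  Cfsg.Agent.Nodes.RGDTwGen Cfsg.Agent.Nodes.RGDChev Cfsg.Agent.Nodes.RGDFold Cfsg.Agent.Nodes.RGDFoldSL
open Cfsg.Agent.KFacts.RgdAut Cfsg.Agent.KFacts.RgdDiag Cfsg.Agent.CpAut.RgdFix Cfsg.Agent.KFacts.RgdOpp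
  Cfsg.Agent.KFacts.RgdRigid Cfsg.Agent.KFacts.RgdField Cfsg.Agent.KFacts.RgdTau Cfsg.Agent.KFacts.RgdNodes
open Cfsg.Lie Cfsg.Agent.ChevalleyStructure Cfsg.Agent.KFacts.TwDFour.Out
open Cfsg.Agent.BiChar.TwDFour (cs)
open Cfsg.Agent.H420.HT.D4Pair (PP LL VV MM)
open Cfsg.Agent.BpExc.FamTw (exists_frame_any)

variable {K : Type} [Field K] [Fintype K] {q : ℕ} {φ : K →+* K}

/-- every automorphism is a frame automorphism up to an inner one -/
theorem exists_diag (hq : IsPrimePow q) (hK : Fintype.card K = q ^ 3) (hφ : ∀ x, φ x = x ^ q)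
    (t : MulAut ↥(twistedD4 K q)) : ∃ a : ↥(twistedD4 K q),
      Diag (Nodes.RGDTwD4.T K q) (Nodes.RGDTwD4.X φ q) (MulAut.conj a * t) 1 := by
  obtain ⟨r, hch⟩ := CharP.exists K
  have : Fact r.Prime := ⟨CharP.char_is_prime K r⟩
  have : Finite CoxeterMatrix.G₂.Group := finiteW cs
  have R := Cfsg.Agent.Nodes.RGDTwD4.rgd cs hK hφ r
  have hG1 := Cfsg.Agent.Nodes.RGDTwD4.G1_eq_top cs hK hφ
  have hG := GG_eq_top (T := Nodes.RGDTwD4.T K q) hG1
  obtain ⟨a, s, D⟩ := exists_frame_any R hG t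
  have hs1 : s = 1 := by
    apply perm_G2 s
    intro h3
    have h4 := Diag.card_eq D 0
    rw [h3] at h4
    exact card_ne hφ hK hq.one_lt h4
  subst hs1
  exact ⟨a, D⟩

/-- **`Ind ρ` is invariant under all automorphisms.** -/
theorem ind_inv (hq : IsPrimePow q) (hK : Fintype.card K = q ^ 3) (hφ : ∀ x, φ x = x ^ q)
    {ρ : ↥(PP φ q) → ℂ} {Q : Type*} [Group Q] (f : ↥(PP φ q) →* Q)
    (hfV : ∀ v (hv : v ∈ VV φ q), f ⟨v, VJ_le_PJ hv⟩ = 1)
    (hfL : ∀ l (hl : l ∈ LL φ q), f ⟨l, LJ_le_PJ hl⟩ = 1 ↔ ∀ m ∈ MM φ q, l * m = m * l)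
    (hρ : ∀ τ : ↥(PP φ q) ≃* ↥(PP φ q), (∀ x, f x = 1 ↔ f (τ x) = 1) →
      (∀ x, Nat.card (MulAction.fixedBy (↥(PP φ q) ⧸ (RGD.B cs Nodes.RGDTwD4.isCartan (Nodes.RGDTwD4.T K q)
        (Nodes.RGDTwD4.X φ q)).subgroupOf (PP φ q)) (τ x)) =
        Nat.card (MulAction.fixedBy (↥(PP φ q) ⧸ (RGD.B cs Nodes.RGDTwD4.isCartan (Nodes.RGDTwD4.T K q)
        (Nodes.RGDTwD4.X φ q)).subgroupOf (PP φ q)) x)) → ∀ x, ρ (τ x) = ρ x)
    [Fintype ↥(twistedD4 K q)] (t : MulAut ↥(twistedD4 K q)) (x : ↥(twistedD4 K q)) :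
    indFun (PP φ q) ρ (t x) = indFun (PP φ q) ρ x := by
  obtain ⟨r, hch⟩ := CharP.exists K
  have : Fact r.Prime := ⟨CharP.char_is_prime K r⟩
  have : Finite CoxeterMatrix.G₂.Group := finiteW cs
  have R := Cfsg.Agent.Nodes.RGDTwD4.rgd cs hK hφ r
  obtain ⟨a, D⟩ := exists_diag hq hK hφ t
  set β := MulAut.conj a * t with hβ
  have hP : Fix β (PP φ q) := fix_PJ R D {0}
  have hL : Fix β (LL φ q) := fix_LJ R D {0}
  have hV : Fix β (VV φ q) := fix_VJ R D {0}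
  have hM : Fix β (MM φ q) := fix_MJ R D {0}
  have hB : Fix β (RGD.B cs Nodes.RGDTwD4.isCartan (Nodes.RGDTwD4.T K q) (Nodes.RGDTwD4.X φ q)) := fix_B R D
  let τ : ↥(PP φ q) ≃* ↥(PP φ q) :=
    { toFun := fun x => ⟨β x, (hP x).2 x.2⟩
      invFun := fun x => ⟨β⁻¹ x, (hP.inv x).2 x.2⟩
      left_inv := fun x => Subtype.ext (MulAut.inv_apply_self _ _ _)
      right_inv := fun x => Subtype.ext (MulAut.apply_inv_self _ _ _)
      map_mul' := fun x y => Subtype.ext (map_mul β _ _) }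
  have hτ : ∀ x : ↥(PP φ q), ((τ x : ↥(PP φ q)) : ↥(twistedD4 K q)) = β x := fun x => rfl
  -- the kernel of `f`
  have hf1 : ∀ (l v : ↥(twistedD4 K q)) (hl : l ∈ LL φ q) (hv : v ∈ VV φ q),
      f ⟨l * v, mul_mem (LJ_le_PJ hl) (VJ_le_PJ hv)⟩ = 1 ↔ ∀ m ∈ MM φ q, l * m = m * l := by
    intro l v hl hv
    have e1 : (⟨l * v, mul_mem (LJ_le_PJ hl) (VJ_le_PJ hv)⟩ : ↥(PP φ q)) =
        ⟨l, LJ_le_PJ hl⟩ * ⟨v, VJ_le_PJ hv⟩ := rfl
    rw [e1, map_mul, hfV v hv, mul_one, hfL l hl]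
  have hker : ∀ x, f x = 1 ↔ f (τ x) = 1 := by
    rintro ⟨x, hx⟩
    obtain ⟨l, hl, v, hv, rfl⟩ := (mem_PJ R).1 hx
    have e1 : τ ⟨l * v, hx⟩ = ⟨β l * β v, mul_mem (LJ_le_PJ ((hL l).2 hl)) (VJ_le_PJ ((hV v).2 hv))⟩ :=
      Subtype.ext (map_mul β l v)
    rw [e1, hf1 l v hl hv, hf1 (β l) (β v) ((hL l).2 hl) ((hV v).2 hv)]
    constructor
    · intro h m hm
      have h1 := congrArg β (h (β⁻¹ m) ((hM.inv m).2 hm))
      rwa [map_mul, map_mul, MulAut.apply_inv_self] at h1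
    · intro h m hm
      apply β.injective
      rw [map_mul, map_mul]
      exact h _ ((hM m).2 hm)
  have hfix := hρ τ hker fun x => card_fixedBy_comp τ (fun x => by
    rw [Subgroup.mem_subgroupOf, Subgroup.mem_subgroupOf, hτ]
    exact hB x) x
  have h1 : indFun (PP φ q) ρ (β x) = indFun (PP φ q) ρ x := indFun_comp hP (fun x hx => hfix ⟨x, hx⟩) x
  have h2 : β x = a * t x * a⁻¹ := rfl
  rw [← h1, h2]
  exact (CharactersDeep.NormalInd.indFun_isClassFunction _ _ _ _).symm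

/-- **The constituents of `Ind ρ` are invariant.** -/
theorem psi_inv (hq : IsPrimePow q) (hK : Fintype.card K = q ^ 3) (hφ : ∀ x, φ x = x ^ q)
    {ρ : ↥(PP φ q) → ℂ} {Q : Type*} [Group Q] (f : ↥(PP φ q) →* Q)
    (hfV : ∀ v (hv : v ∈ VV φ q), f ⟨v, VJ_le_PJ hv⟩ = 1)
    (hfL : ∀ l (hl : l ∈ LL φ q), f ⟨l, LJ_le_PJ hl⟩ = 1 ↔ ∀ m ∈ MM φ q, l * m = m * l)
    (hρ : ∀ τ : ↥(PP φ q) ≃* ↥(PP φ q), (∀ x, f x = 1 ↔ f (τ x) = 1) →
      (∀ x, Nat.card (MulAction.fixedBy (↥(PP φ q) ⧸ (RGD.B cs Nodes.RGDTwD4.isCartan (Nodes.RGDTwD4.T K q)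
        (Nodes.RGDTwD4.X φ q)).subgroupOf (PP φ q)) (τ x)) =
        Nat.card (MulAction.fixedBy (↥(PP φ q) ⧸ (RGD.B cs Nodes.RGDTwD4.isCartan (Nodes.RGDTwD4.T K q)
        (Nodes.RGDTwD4.X φ q)).subgroupOf (PP φ q)) x)) → ∀ x, ρ (τ x) = ρ x)
    {χ χ' : IrrCharacter ↥(twistedD4 K q)}
    (hind : ∀ [Fintype ↥(twistedD4 K q)], indFun (PP φ q) ρ =
      (χ : ↥(twistedD4 K q) → ℂ) + (χ' : ↥(twistedD4 K q) → ℂ))
    (hne : charDegree (χ : ↥(twistedD4 K q) → ℂ) ≠ charDegree (χ' : ↥(twistedD4 K q) → ℂ))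
    (t : MulAut ↥(twistedD4 K q)) (x : ↥(twistedD4 K q)) :
    (χ : ↥(twistedD4 K q) → ℂ) (t x) = (χ : ↥(twistedD4 K q) → ℂ) x := by
  have iY : Fintype ↥(twistedD4 K q) := Fintype.ofFinite _
  refine comp_eq hne (fun y => ?_) x
  have h1 := ind_inv hq hK hφ f hfV hfL hρ t y
  rw [hind] at h1
  exact h1

/-- the field automorphisms -/
noncomputable def stHom (K : Type) [Field K] [Fintype K] (q : ℕ) : (K ≃+* K) →* MulAut ↥(twistedD4 K q) where
  toFun := Cfsg.Agent.CpAut.RgdTwD4.st q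
  map_one' := by ext1 g; exact Cfsg.Agent.H28.FamFour.st_one g
  map_mul' τ τ' := by ext1 g; exact Cfsg.Agent.H28.FamFour.st_mul τ τ' g

/-- **`Out (³D₄(q))` is cyclic.** -/
theorem out_cyclic (hq : IsPrimePow q) (hK : Fintype.card K = q ^ 3) : IsCyclic (Cfsg.Out ↥(twistedD4 K q)) := by
  obtain ⟨p, hp⟩ := CharP.exists K
  have : Fact p.Prime := ⟨CharP.char_is_prime K p⟩
  obtain ⟨φ, hφ⟩ := D4Fixed.exists_frob hq hK
  have hfin : Finite CoxeterMatrix.G₂.Group := finiteW cs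
  have R := Cfsg.Agent.Nodes.RGDTwD4.rgd cs hK hφ p
  have hG1 := Cfsg.Agent.Nodes.RGDTwD4.G1_eq_top cs hK hφ
  let F : (K ≃+* K) →* Cfsg.Out ↥(twistedD4 K q) := (QuotientGroup.mk' (Cfsg.Inn ↥(twistedD4 K q))).comp (stHom K q)
  have hinj : Function.Injective F := by
    rw [injective_iff_map_eq_one]
    intro σ hσ
    have h0 : stHom K q σ ∈ Cfsg.Inn ↥(twistedD4 K q) := (QuotientGroup.eq_one_iff _).1 hσ
    obtain ⟨g, hg⟩ := h0
    have h2 := Cfsg.Agent.H69.OutTwD4.dtau_st hφ hK σ cs p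
    have h3 : Cfsg.Agent.H69.OutTwD4.st q σ = MulAut.conj g := hg.symm
    rw [h3] at h2
    have h4 := Cfsg.Agent.H69.OutCount.mem_T_of_diag R hG1 h2.diag
    exact h2.unique hφ hK (dtau_conj hφ hK cs p h4)
  have hfK : Finite (K ≃+* K) := Finite.of_injective (fun f : K ≃+* K => (f : K → K)) DFunLike.coe_injective
  have hfM : Finite (MulAut ↥(twistedD4 K q)) := Finite.of_injective
    (fun t : MulAut ↥(twistedD4 K q) => (t : ↥(twistedD4 K q) → ↥(twistedD4 K q))) fun a b h => by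
      ext1 x
      exact congrFun h x
  have hfO : Finite (Cfsg.Out ↥(twistedD4 K q)) := Quotient.finite _
  have hbij : Function.Bijective F := (Nat.bijective_iff_injective_and_card F).2
    ⟨hinj, (Cfsg.Agent.H69.OutTwD4.card_out hq hK p).symm⟩
  have hc : IsCyclic (K ≃+* K) := LieRecognition.FieldSemilinear.isCyclic_ringAut K
  exact isCyclic_of_surjective F hbij.2

/-- the form of `row_of_inv` -/
theorem hcyc (hq : IsPrimePow q) (hK : Fintype.card K = q ^ 3) (p : ℕ) (Q : Subgroup (Cfsg.Out ↥(twistedD4 K q)))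
    (_ : IsPGroup p Q) : IsCyclic Q := by
  have := out_cyclic hq hK
  infer_instance

end td

end Cfsg.Agent.H566.HT
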